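import Cfsg.Agent.H234.HT.ExcFinal
import Cfsg.Agent.H37.HT.Psp
import Cfsg.Agent.H462.HT.OPlus
import Cfsg.Agent.H564.HT.Psu
import Cfsg.Agent.H683.HT.Orth
import Cfsg.Agent.H722.HT.PslField
import Cfsg.Agent.H316.HT.Mono

/-!
# S4933: part (O), assembled (helper112)
-/

set_option autoImplicit false
set_option linter.unusedVariables false

open Cfsg Matrix

namespace Cfsg.Agent.H112.HT.Asm.OAb

open Cfsg.Agent Cfsg.Agent.H316.HT Cfsg.Agent.H892.HT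



theorem oabRows : OAb RowD where
  psl := fun p _ F _ _ n _ h1 h2 h3 h4 h5 => H722.HT.oab_psl p F n h1 h2 h3 h4 h5
  psu := fun p _ F _ _ n q _ h1 h2 h3 h4 h5 _ => H564.HT.psu p F n q h1 h2 h3 h4 h5
  psp := fun p _ F _ _ k _ h1 h2 h3 h4 h5 => H37.HT.Psp.psp p F k h1 h2 h3 h4 h5
  oodd := fun p _ F _ _ k _ h1 h2 h3 h4 h5 h6 => H683.HT.oodd h1 h2 h3 h4 h5 h6
  oplus := fun p _ F _ _ k _ h1 h2 h3 h4 h5 => H462.HT.oplus h1 h2 h3 h4 h5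
  ominus := fun p _ F _ _ k a b _ h1 h2 h3 h4 h5 h6 => H683.HT.ominus a b h1 h2 h3 h4 h5 h6
  g2 := fun p _ F _ _ _ h1 h2 h3 h4 => H234.HT.oab_g2 p F h1 h2 h3 h4
  f4 := fun p _ F _ _ _ h1 h2 h3 h4 => H234.HT.oab_f4 p F h1 h2 h3 h4
  e6 := fun p _ F _ _ _ h1 h2 h3 h4 => H234.HT.oab_e6 p F h1 h2 h3 h4
  e7 := fun p _ F _ _ _ h1 h2 h3 h4 => H234.HT.oab_e7 p F h1 h2 h3 h4
  e8 := fun p _ F _ _ _ h1 h2 h3 h4 => H234.HT.oab_e8 p F h1 h2 h3 h4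
  e6t := fun p _ F _ _ q _ h1 h2 h3 h4 h5 h6 => H234.HT.oab_e6t p F q h1 h2 h3 h4 h5 h6
  d4t := fun p _ F _ _ q _ h1 h2 h3 h4 h5 h6 => H234.HT.oab_d4t p F q h1 h2 h3 h4 h5 h6
  f4t := fun p _ h1 => H234.HT.oab_f4t p h1

end Cfsg.Agent.H112.HT.Asm.OAb
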