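import Cfsg.Agent.H178.HT.ClassPlus
import Cfsg.Agent.H22.HT.G2Fin
import Cfsg.Agent.H248.HT.RowF4
import Cfsg.Agent.H264.HT.RowE6
import Cfsg.Agent.H279.HT.Psl
import Cfsg.Agent.H279.HT.ThreeRow
import Cfsg.Agent.H315.HT.TwFRow
import Cfsg.Agent.H326.HT.RowTwE
import Cfsg.Agent.H40.HT.OwnAll
import Cfsg.Agent.H408.HT.U3Three
import Cfsg.Agent.H420.HT.D4Field
import Cfsg.Agent.H487.HT.RowOOdd
import Cfsg.Agent.H553.HT.RowPsp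
import Cfsg.Agent.H688.HT.Three
import Cfsg.Agent.H715.HT.RowE7
import Cfsg.Agent.H724.HT.E8Row
import Cfsg.Agent.H734.HT.PsuE1
import Cfsg.Agent.H794.EM.Asm
import Cfsg.Agent.H892.HT.Diag
import Cfsg.Agent.H985.HT.SzReeOdd
import Cfsg.Agent.H316.HT.Mono

/-!
# S4933: the rows at odd primes, groups of Lie type, assembled (helper112)
-/

set_option autoImplicit false
set_option linter.unusedVariables false

open Cfsg Matrix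

namespace Cfsg.Agent.H112.HT.Asm.Odd

open Cfsg.Agent Cfsg.Agent.H316.HT Cfsg.Agent.H892.HT



theorem oddRows : OddRows Row where
  own := fun p _ h1 => H40.HT.own_odd p h1
  psl_e2 := fun p _ F _ _ n _ h1 h2 h3 h4 h5 => H794.EM.psl_e2 p F n h1 h2 h3 h4 h5
  psl_e1 := fun p _ F _ _ n _ h1 h2 h3 h4 h5 h6 => H279.HT.psl_e1 p F n h1 h2 h3 h4 h5 h6
  psl_diag := fun p _ F _ _ n _ h1 h2 h3 h4 h5 h6 => H279.HT.psl_diag_of (fun F _ _ h3 _ => by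
    by_cases h9 : 9 ∣ Fintype.card F - 1
    · exact H279.HT.ThreeRow.psl_nine F h9
    · exact H688.HT.row_psl3 F h3 h9) p F n h1 h2 h3 h4 h5 h6
  psu_e2 := fun p _ F _ _ n q _ h1 h2 h3 h4 h5 h6 => H794.EM.psu_e2 p F n q h1 h2 h3 h4 h5 h6
  psu_e1 := fun p _ F _ _ n q _ h1 h2 h3 h4 h5 h6 h7 => H734.HT.psu_e1 p F n q h1 h2 h3 h4 h5 h6 h7
  psu_diag := fun p _ F _ _ n q _ h1 h2 h3 h4 h5 h6 h7 => H892.HT.psu_diag_of (fun F _ _ q _ h1 h2 _ => by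
    by_cases h9 : 9 ∣ q + 1
    · exact H408.HT.psu_nine F q h1 h9
    · exact H688.HT.row_psu3 F q h1 h2 h9) p F n q h1 h2 h3 h4 h5 h6 h7
  psp := fun p _ F _ _ k _ h1 h2 h3 h4 => H553.HT.row_psp p F k h1 h2 h3 h4
  oodd := fun p _ F _ _ k _ h1 h2 h3 h4 h5 => H487.HT.oodd p F k h1 h2 h3 h4 h5
  oplus := fun p _ F _ _ k _ h1 h2 h3 h4 => H178.HT.row_oplus p F k h1 h2 h3 h4
  ominus := fun p _ F _ _ k a b _ h1 h2 h3 h4 h5 => H487.HT.ominus p F k a b h1 h2 h3 h4 h5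
  g2 := fun p _ F _ _ _ h1 h2 h3 => H22.HT.g2 p F h1 h2 h3
  f4 := fun p _ F _ _ _ h1 h2 h3 => H248.HT.f4 p F h1 h2 h3
  e6 := fun p _ F _ _ _ h1 h2 h3 => H264.HT.e6 p F h1 h2 h3
  e7 := fun p _ F _ _ _ h1 h2 h3 => H715.HT.e7 p F h1 h2 h3
  e8 := fun p _ F _ _ _ h1 h2 h3 => H724.HT.e8 p F h1 h2 h3
  e6t := fun p _ F _ _ q _ h1 h2 h3 h4 h5 => H326.HT.e6t p F q h1 h2 h3 h4 h5
  d4t := fun p _ F _ _ q _ h1 h2 h3 h4 h5 => H420.HT.D4Field.d4t p F q h1 h2 h3 h4 h5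
  f4t := fun p _ h1 => H315.HT.f4t p h1
  sz := fun p _ h1 => H985.HT.row_sz p h1
  ree := fun p _ h1 h2 => H985.HT.row_ree p h1 h2

end Cfsg.Agent.H112.HT.Asm.Odd
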